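import Mathlib

set_option linter.unusedSectionVars false
set_option linter.unusedVariables false
set_option linter.unusedSimpArgs false
set_option autoImplicit false
set_option maxHeartbeats 400000

noncomputable section

namespace Groth.Agent.Lib.Helper6.BunG

variable {ι : Type*} [DecidableEq ι]

/-- two-coordinate unimodular operator. -/
def op2 (i j : ι) (hij : i ≠ j) (α β γ δ' : ℤ) (h : α * δ' - β * γ = 1) :
    (ι → ℤ) ≃ₗ[ℤ] (ι → ℤ) where
  toFun x := fun k => if k = i then α * x i + β * x j else if k = j then γ * x i + δ' * x j else x k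
  invFun x := fun k => if k = i then δ' * x i - β * x j else if k = j then -γ * x i + α * x j else x k
  map_add' x y := by
    funext k
    simp only [Pi.add_apply]
    split_ifs <;> ring
  map_smul' c x := by
    funext k
    simp only [Pi.smul_apply, smul_eq_mul, RingHom.id_apply]
    split_ifs <;> ring
  left_inv x := by
    funext k
    have hji : j ≠ i := fun h' => hij h'.symm
    by_cases hki : k = i
    · subst hki
      simp only [if_true, if_neg hji]
      linear_combination (x k) * h
    · by_cases hkj : k = j
      · subst hkj
        simp only [if_neg hki, if_true]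
        linear_combination (x k) * h
      · simp only [if_neg hki, if_neg hkj]
  right_inv x := by
    funext k
    have hji : j ≠ i := fun h' => hij h'.symm
    by_cases hki : k = i
    · subst hki
      simp only [if_true, if_neg hji]
      linear_combination (x k) * h
    · by_cases hkj : k = j
      · subst hkj
        simp only [if_neg hki, if_true]
        linear_combination (x k) * h
      · simp only [if_neg hki, if_neg hkj]

lemma op2_apply (i j : ι) (hij : i ≠ j) (α β γ δ' : ℤ) (h : α * δ' - β * γ = 1) (x : ι → ℤ) (k : ι) :
    op2 i j hij α β γ δ' h x k =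
      if k = i then α * x i + β * x j else if k = j then γ * x i + δ' * x j else x k := rfl

variable [Fintype ι]

lemma exists_T_aux (i0 : ι) : ∀ (s : Finset ι) (d : ι → ℤ),
    (∀ k, k ≠ i0 → d k ≠ 0 → k ∈ s) →
    ∃ (T : (ι → ℤ) ≃ₗ[ℤ] (ι → ℤ)) (c : ℤ), T (c • Pi.single i0 1) = d := by
  intro s
  induction s using Finset.induction_on with
  | empty =>
    intro d hd
    refine ⟨LinearEquiv.refl _ _, d i0, ?_⟩
    funext k
    simp only [LinearEquiv.refl_apply, Pi.smul_apply, smul_eq_mul]
    by_cases hk : k = i0
    · subst hk; simp
    · have : d k = 0 := by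
        by_contra h'
        exact absurd (hd k hk h') (Finset.notMem_empty _)
      simp [Pi.single_apply, hk, this]
  | insert j s hj ih =>
    intro d hd
    by_cases hcase : j = i0 ∨ d j = 0
    · apply ih d
      intro k hk hdk
      have := hd k hk hdk
      rcases Finset.mem_insert.mp this with h' | h'
      · exfalso
        subst h'
        rcases hcase with h'' | h''
        · exact hk h''
        · exact hdk h''
      · exact h'
    · push Not at hcase
      obtain ⟨hji, hdj⟩ := hcase
      set a := d i0 with ha
      set b := d j with hb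
      set g : ℤ := (Int.gcd a b : ℤ) with hg
      have hg0 : g ≠ 0 := by
        rw [hg]
        have : Int.gcd a b ≠ 0 := by
          rw [Ne, Int.gcd_eq_zero_iff]; tauto
        exact_mod_cast this
      have hbez : g = a * Int.gcdA a b + b * Int.gcdB a b := Int.gcd_eq_gcd_ab a b
      obtain ⟨a', ha'⟩ : g ∣ a := Int.gcd_dvd_left a b
      obtain ⟨b', hb'⟩ : g ∣ b := Int.gcd_dvd_right a b
      have hdet : a' * Int.gcdA a b - (-Int.gcdB a b) * b' = 1 := by
        have h1 : g * (a' * Int.gcdA a b + b' * Int.gcdB a b) = g * 1 := by
          rw [mul_one]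
          calc g * (a' * Int.gcdA a b + b' * Int.gcdB a b)
              = (g * a') * Int.gcdA a b + (g * b') * Int.gcdB a b := by ring
            _ = a * Int.gcdA a b + b * Int.gcdB a b := by rw [← ha', ← hb']
            _ = g := hbez.symm
        have h2 := mul_left_cancel₀ hg0 h1
        linear_combination h2
      set d1 : ι → ℤ := Function.update (Function.update d i0 g) j 0 with hd1
      have hd1j : d1 j = 0 := by simp [hd1]
      have hd1i : d1 i0 = g := by
        rw [hd1, Function.update_of_ne (Ne.symm hji), Function.update_self]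
      have hd1k : ∀ k, k ≠ i0 → k ≠ j → d1 k = d k := by
        intro k h1 h2
        rw [hd1, Function.update_of_ne h2, Function.update_of_ne h1]
      obtain ⟨T2, c, hT2⟩ := ih d1 (by
        intro k hk hdk
        have hkj : k ≠ j := by
          intro h'; subst h'; exact hdk hd1j
        rw [hd1k k hk hkj] at hdk
        have := hd k hk hdk
        rcases Finset.mem_insert.mp this with h' | h'
        · exact absurd h' hkj
        · exact h')
      refine ⟨T2.trans (op2 i0 j (Ne.symm hji) a' (-Int.gcdB a b) b' (Int.gcdA a b) hdet), c, ?_⟩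
      rw [LinearEquiv.trans_apply, hT2]
      funext k
      rw [op2_apply]
      by_cases hki : k = i0
      · subst hki
        rw [if_pos rfl, hd1i, hd1j]
        rw [← ha, ha']; ring
      · by_cases hkj : k = j
        · subst hkj
          rw [if_neg hki, if_pos rfl, hd1i, hd1j]
          rw [← hb, hb']; ring
        · rw [if_neg hki, if_neg hkj, hd1k k hki hkj]

/-- A vector of `ℤ^ι` is its gcd times a basis vector, up to an automorphism. -/
theorem exists_T (i0 : ι) (d : ι → ℤ) :
    ∃ T : (ι → ℤ) ≃ₗ[ℤ] (ι → ℤ), T ((Finset.univ.gcd d) • Pi.single i0 1) = d := by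
  obtain ⟨T, c, hT⟩ := exists_T_aux i0 Finset.univ d (fun k _ _ => Finset.mem_univ k)
  set D := Finset.univ.gcd d with hD
  have h1 : c ∣ D := by
    apply Finset.dvd_gcd
    intro k _
    have := congrFun hT k
    rw [map_smul] at this
    rw [← this]
    exact ⟨_, rfl⟩
  have h2 : D ∣ c := by
    choose d'' hd'' using fun k => Finset.gcd_dvd (f := d) (Finset.mem_univ k)
    have h3 : d = D • d'' := by
      funext k; rw [hd'' k]; simp [hD]
    have h4 : c • Pi.single i0 (1 : ℤ) = D • T.symm d'' := by
      rw [← map_smul, ← h3, ← hT, LinearEquiv.symm_apply_apply]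
    have h5 := congrFun h4 i0
    simp only [Pi.smul_apply, Pi.single_eq_same, smul_eq_mul, mul_one] at h5
    exact ⟨_, h5⟩
  have h3 : c.natAbs = D.natAbs := Int.natAbs_eq_of_dvd_dvd h1 h2
  rcases Int.natAbs_eq_natAbs_iff.mp h3 with h4 | h4
  · refine ⟨T, ?_⟩
    rw [← h4]; exact hT
  · refine ⟨(LinearEquiv.neg ℤ).trans T, ?_⟩
    rw [LinearEquiv.trans_apply, LinearEquiv.neg_apply, ← hT, h4, neg_smul]

end Groth.Agent.Lib.Helper6.BunG
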