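import Mathlib

set_option linter.unusedSectionVars false
set_option linter.unusedVariables false
set_option linter.unusedSimpArgs false
set_option autoImplicit false
set_option maxHeartbeats 400000

noncomputable section

namespace Groth.Agent.Lib.Helper6.BunG

lemma gcd_dvd_nat (δ : ℕ) (c : ℤ) : Int.gcd (δ : ℤ) c ∣ δ := by
  have := Int.gcd_dvd_left (δ : ℤ) c
  exact_mod_cast this

/-- reduction map. -/
def red (δ : ℕ) (c : ℤ) : ZMod δ →+* ZMod (Int.gcd (δ : ℤ) c) :=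
  ZMod.castHom (gcd_dvd_nat δ c) (ZMod (Int.gcd (δ : ℤ) c))

lemma red_intCast (δ : ℕ) (c : ℤ) (k : ℤ) : red δ c (k : ZMod δ) = (k : ZMod (Int.gcd (δ : ℤ) c)) :=
  map_intCast _ k

lemma red_surjective (δ : ℕ) (c : ℤ) : Function.Surjective (red δ c) :=
  ZMod.ringHom_surjective _

lemma red_eq_zero_iff (δ : ℕ) (c : ℤ) (y : ZMod δ) :
    red δ c y = 0 ↔ ∃ u : ℤ, y = ((c * u : ℤ) : ZMod δ) := by
  obtain ⟨k, rfl⟩ := ZMod.intCast_surjective y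
  rw [red_intCast, CharP.intCast_eq_zero_iff (ZMod (Int.gcd (δ : ℤ) c)) (Int.gcd (δ : ℤ) c)]
  constructor
  · rintro ⟨k', hk'⟩
    refine ⟨Int.gcdB (δ : ℤ) c * k', ?_⟩
    rw [ZMod.intCast_eq_intCast_iff_dvd_sub]
    refine ⟨-(Int.gcdA (δ : ℤ) c * k'), ?_⟩
    have hbez := Int.gcd_eq_gcd_ab (δ : ℤ) c
    rw [hk', hbez]; ring
  · rintro ⟨u, hu⟩
    rw [ZMod.intCast_eq_intCast_iff_dvd_sub] at hu
    have h1 : ((Int.gcd (δ : ℤ) c : ℕ) : ℤ) ∣ (δ : ℤ) := Int.gcd_dvd_left _ _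
    have h2 : ((Int.gcd (δ : ℤ) c : ℕ) : ℤ) ∣ c := Int.gcd_dvd_right _ _
    have h3 := dvd_trans h1 hu
    have h4 : ((Int.gcd (δ : ℤ) c : ℕ) : ℤ) ∣ c * u := Dvd.dvd.mul_right h2 u
    have := dvd_sub h4 h3
    simpa using this

lemma two_gen_iff (δ : ℕ) (D g : ℤ) (y : ZMod δ) :
    (∃ v u : ℤ, y = ((D * v + (1 - g) * u : ℤ) : ZMod δ)) ↔
      ∃ u : ℤ, y = (((Int.gcd (g - 1) D : ℕ) : ℤ) * u : ℤ) := by
  have h1 : ((Int.gcd (g - 1) D : ℕ) : ℤ) ∣ g - 1 := Int.gcd_dvd_left _ _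
  have h2 : ((Int.gcd (g - 1) D : ℕ) : ℤ) ∣ D := Int.gcd_dvd_right _ _
  have hbez := Int.gcd_eq_gcd_ab (g - 1) D
  generalize ((Int.gcd (g - 1) D : ℕ) : ℤ) = c at *
  constructor
  · rintro ⟨v, u, rfl⟩
    obtain ⟨p, hp⟩ := h1
    obtain ⟨q, hq⟩ := h2
    refine ⟨q * v - p * u, ?_⟩
    congr 1
    linear_combination v * hq - u * hp
  · rintro ⟨u, rfl⟩
    refine ⟨Int.gcdB (g - 1) D * u, -(Int.gcdA (g - 1) D * u), ?_⟩
    congr 1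
    rw [hbez]; ring

section pos

variable (δ : ℕ) (c : ℤ)

/-- multiplication by `gcd δ c`, as a map `ZMod (δ / gcd) → ZMod δ`. -/
def mu : ZMod (δ / Int.gcd (δ : ℤ) c) →+ ZMod δ :=
  ZMod.lift (δ / Int.gcd (δ : ℤ) c)
    ⟨zmultiplesHom (ZMod δ) (((Int.gcd (δ : ℤ) c : ℕ) : ℤ) : ZMod δ), by
      rw [zmultiplesHom_apply, zsmul_eq_mul]
      have : ((Int.gcd (δ : ℤ) c : ℕ) : ℤ) * ((δ / Int.gcd (δ : ℤ) c : ℕ) : ℤ) = (δ : ℤ) := by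
        have := Nat.mul_div_cancel' (gcd_dvd_nat δ c)
        exact_mod_cast this
      have h2 : (((δ / Int.gcd (δ : ℤ) c : ℕ) : ℤ) : ZMod δ) * (((Int.gcd (δ : ℤ) c : ℕ) : ℤ) : ZMod δ)
          = (((δ : ℤ)) : ZMod δ) := by
        have e : (((δ / Int.gcd (δ : ℤ) c : ℕ) : ℤ) : ZMod δ) * (((Int.gcd (δ : ℤ) c : ℕ) : ℤ) : ZMod δ)
            = ((((Int.gcd (δ : ℤ) c : ℕ) : ℤ) * ((δ / Int.gcd (δ : ℤ) c : ℕ) : ℤ) : ℤ) : ZMod δ) := by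
          push_cast; ring
        rw [e]
        exact congrArg (Int.cast : ℤ → ZMod δ) this
      rw [h2]
      simp⟩

lemma mu_intCast (k : ℤ) :
    mu δ c (k : ZMod (δ / Int.gcd (δ : ℤ) c)) = ((((Int.gcd (δ : ℤ) c : ℕ) : ℤ) * k : ℤ) : ZMod δ) := by
  rw [mu, ZMod.lift_coe]
  simp only [zmultiplesHom_apply, zsmul_eq_mul]
  push_cast
  ring

lemma mu_injective (hδ : 0 < δ) : Function.Injective (mu δ c) := by
  rw [injective_iff_map_eq_zero]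
  intro x hx
  obtain ⟨k, rfl⟩ := ZMod.intCast_surjective x
  rw [mu_intCast, CharP.intCast_eq_zero_iff (ZMod δ) δ] at hx
  rw [CharP.intCast_eq_zero_iff (ZMod (δ / Int.gcd (δ : ℤ) c)) (δ / Int.gcd (δ : ℤ) c)]
  have hG : ((Int.gcd (δ : ℤ) c : ℕ) : ℤ) ≠ 0 := by
    have : Int.gcd (δ : ℤ) c ≠ 0 := by
      rw [Ne, Int.gcd_eq_zero_iff]
      intro h
      have : (δ : ℤ) = 0 := h.1
      omega
    exact_mod_cast this
  have h1 : ((Int.gcd (δ : ℤ) c : ℕ) : ℤ) * ((δ / Int.gcd (δ : ℤ) c : ℕ) : ℤ) = (δ : ℤ) := by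
    have := Nat.mul_div_cancel' (gcd_dvd_nat δ c)
    exact_mod_cast this
  exact (mul_dvd_mul_iff_left hG).mp (dvd_trans h1.dvd hx)

lemma mem_range_mu_iff (y : ZMod δ) : y ∈ Set.range (mu δ c) ↔ red δ c y = 0 := by
  constructor
  · rintro ⟨x, rfl⟩
    obtain ⟨k, rfl⟩ := ZMod.intCast_surjective x
    rw [mu_intCast, red_intCast, CharP.intCast_eq_zero_iff (ZMod (Int.gcd (δ : ℤ) c)) (Int.gcd (δ : ℤ) c)]
    exact ⟨k, rfl⟩
  · intro h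
    obtain ⟨k, rfl⟩ := ZMod.intCast_surjective y
    rw [red_intCast, CharP.intCast_eq_zero_iff (ZMod (Int.gcd (δ : ℤ) c)) (Int.gcd (δ : ℤ) c)] at h
    obtain ⟨k', hk'⟩ := h
    exact ⟨(k' : ZMod (δ / Int.gcd (δ : ℤ) c)), by rw [mu_intCast, hk']⟩

end pos

end Groth.Agent.Lib.Helper6.BunG
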