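import Groth.Agent.Lib.Helper6.BunG.Basis
import Groth.Agent.Lib.Helper6.BunG.Coord

set_option linter.unusedSectionVars false
set_option linter.unusedVariables false
set_option linter.unusedSimpArgs false
set_option autoImplicit false
set_option maxHeartbeats 400000

noncomputable section

namespace Groth.Agent.Lib.Helper6.BunG

variable {m : ℕ} (δ : ℕ)

lemma single_eq_smul {n : ℕ} (i : Fin n) (a : ℤ) :
    (Pi.single i a : Fin n → ℤ) = a • Pi.single i 1 := by
  ext j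
  by_cases h : j = i
  · subst h; simp
  · simp [Pi.single_apply, h]

/-- evaluation on the basis `T e_i`. -/
def evalEquiv (T : (Fin (m + 1) → ℤ) ≃ₗ[ℤ] (Fin (m + 1) → ℤ)) :
    ((Fin (m + 1) → ℤ) →+ ZMod δ) ≃+ (Fin (m + 1) → ZMod δ) where
  toFun ψ := fun i => ψ (T (Pi.single i 1))
  invFun w :=
    { toFun := fun x => ∑ i, (T.symm x) i • w i
      map_zero' := by simp
      map_add' := by
        intro x y
        simp only [map_add, Pi.add_apply, add_smul, Finset.sum_add_distrib] }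
  left_inv ψ := by
    apply AddMonoidHom.ext
    intro x
    simp only [AddMonoidHom.coe_mk, ZeroHom.coe_mk]
    have h1 : T.symm x = ∑ i, (T.symm x) i • (Pi.single i 1 : Fin (m + 1) → ℤ) := by
      conv_lhs => rw [← Finset.univ_sum_single (T.symm x)]
      apply Finset.sum_congr rfl
      intro i _
      exact single_eq_smul i _
    have h2 : x = ∑ i, (T.symm x) i • T (Pi.single i 1 : Fin (m + 1) → ℤ) := by
      conv_lhs => rw [← T.apply_symm_apply x, h1]
      rw [map_sum]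
      apply Finset.sum_congr rfl
      intro i _
      rw [map_smul]
    conv_rhs => rw [h2]
    rw [map_sum]
    apply Finset.sum_congr rfl
    intro i _
    rw [map_zsmul]
  right_inv w := by
    funext i
    simp only [AddMonoidHom.coe_mk, ZeroHom.coe_mk, LinearEquiv.symm_apply_apply]
    rw [Finset.sum_eq_single i]
    · simp
    · intro j _ hj
      simp [Pi.single_apply, hj]
    · intro h; exact absurd (Finset.mem_univ i) h
  map_add' ψ ψ' := rfl

lemma evalEquiv_apply (T : (Fin (m + 1) → ℤ) ≃ₗ[ℤ] (Fin (m + 1) → ℤ))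
    (ψ : (Fin (m + 1) → ℤ) →+ ZMod δ) (i : Fin (m + 1)) :
    evalEquiv δ T ψ i = ψ (T (Pi.single i 1)) := rfl

/-- the additive map attached to a symmetric form. -/
def Fhom (g : ℤ) (hδ : (δ : ℤ) ∣ 2 * (g - 1)) (d : Fin (m + 1) → ℤ)
    (b : LinearMap.BilinForm ℤ (Fin (m + 1) → ℤ)) (hb : b.IsSymm) :
    (Fin (m + 1) → ℤ) →+ ZMod δ where
  toFun x := ((b d x + (1 - g) * b x x : ℤ) : ZMod δ)
  map_zero' := by simp
  map_add' x y := by
    have hsym : b y x = b x y := hb.eq y x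
    have h2 : ((2 * (g - 1) : ℤ) : ZMod δ) = 0 := (CharP.intCast_eq_zero_iff _ δ _).mpr hδ
    simp only [map_add, LinearMap.add_apply, hsym]
    push_cast at h2 ⊢
    linear_combination (-(b x y : ZMod δ)) * h2

/-- the generating set. -/
def Sset (g : ℤ) (d : Fin (m + 1) → ℤ) : Set ((Fin (m + 1) → ℤ) →+ ZMod δ) :=
  {φ | ∃ b : LinearMap.BilinForm ℤ (Fin (m + 1) → ℤ), b.IsSymm ∧
      ∀ x, φ x = ((b d x + (1 - g) * b x x : ℤ) : ZMod δ)}

/-- coordinate condition. -/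
def cond (g D : ℤ) (w : Fin (m + 1) → ZMod δ) : Prop :=
  (∃ u : ℤ, w 0 = (((D + 1 - g) * u : ℤ) : ZMod δ)) ∧
    ∀ j : Fin m, ∃ v u : ℤ, w j.succ = ((D * v + (1 - g) * u : ℤ) : ZMod δ)

/-- the matrix used to realise prescribed values. -/
def Mmat (u0 : ℤ) (v u : Fin m → ℤ) : Matrix (Fin (m + 1)) (Fin (m + 1)) ℤ :=
  fun i k => if i = k then (Fin.cases u0 u i : ℤ)
    else if i = 0 then (Fin.cases 0 v k : ℤ) else if k = 0 then (Fin.cases 0 v i : ℤ) else 0

lemma Mmat_symm (u0 : ℤ) (v u : Fin m → ℤ) : (Mmat u0 v u).IsSymm := by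
  ext i k
  simp only [Matrix.transpose_apply, Mmat]
  by_cases hik : i = k
  · subst hik; simp
  · have hki : k ≠ i := fun h => hik h.symm
    simp only [if_neg hik, if_neg hki]
    by_cases hi : i = 0
    · subst hi
      have hk0 : k ≠ 0 := hki
      simp [hk0]
    · by_cases hk : k = 0
      · subst hk; simp [hi]
      · simp [hi, hk]

lemma mem_Sset_iff (g : ℤ) (hδ : (δ : ℤ) ∣ 2 * (g - 1)) (d : Fin (m + 1) → ℤ) (D : ℤ)
    (T : (Fin (m + 1) → ℤ) ≃ₗ[ℤ] (Fin (m + 1) → ℤ))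
    (hT : T (D • Pi.single 0 1) = d) (φ : (Fin (m + 1) → ℤ) →+ ZMod δ) :
    φ ∈ Sset δ g d ↔ cond δ g D (evalEquiv δ T φ) := by
  have hd : d = D • T (Pi.single 0 1) := by rw [← hT, map_smul]
  constructor
  · rintro ⟨b, hb, hφ⟩
    refine ⟨⟨b (T (Pi.single 0 1)) (T (Pi.single 0 1)), ?_⟩, fun j =>
      ⟨b (T (Pi.single 0 1)) (T (Pi.single j.succ 1)),
        b (T (Pi.single j.succ 1)) (T (Pi.single j.succ 1)), ?_⟩⟩
    · rw [evalEquiv_apply, hφ]
      congr 1
      rw [hd, map_smul, LinearMap.smul_apply, smul_eq_mul]; ring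
    · rw [evalEquiv_apply, hφ]
      congr 1
      rw [hd, map_smul, LinearMap.smul_apply, smul_eq_mul]
  · rintro ⟨⟨u0, h0⟩, hj⟩
    choose v u hvu using hj
    set b0 := Matrix.toBilin' (Mmat u0 v u) with hb0
    have hb0s : b0.IsSymm := Matrix.isSymm_toBilin'_iff_isSymm.mpr (Mmat_symm u0 v u)
    set b : LinearMap.BilinForm ℤ (Fin (m + 1) → ℤ) :=
      b0.comp (T.symm : (Fin (m + 1) → ℤ) →ₗ[ℤ] (Fin (m + 1) → ℤ))
        (T.symm : (Fin (m + 1) → ℤ) →ₗ[ℤ] (Fin (m + 1) → ℤ)) with hb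
    have hbs : b.IsSymm := ⟨fun x y => by
      simp only [hb, LinearMap.BilinForm.comp_apply]
      exact hb0s.eq _ _⟩
    have hbT : ∀ i k, b (T (Pi.single i 1)) (T (Pi.single k 1)) = Mmat u0 v u i k := by
      intro i k
      simp only [hb, LinearMap.BilinForm.comp_apply, LinearEquiv.coe_coe,
        LinearEquiv.symm_apply_apply, hb0, Matrix.toBilin'_single]
    refine ⟨b, hbs, ?_⟩
    have key : φ = Fhom δ g hδ d b hbs := by
      apply (evalEquiv δ T).injective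
      funext i
      rw [evalEquiv_apply, evalEquiv_apply]
      change φ (T (Pi.single i 1)) = ((b d (T (Pi.single i 1)) +
        (1 - g) * b (T (Pi.single i 1)) (T (Pi.single i 1)) : ℤ) : ZMod δ)
      rw [hd, map_smul, LinearMap.smul_apply, smul_eq_mul, hbT, hbT]
      refine Fin.cases ?_ ?_ i
      · have := h0
        rw [evalEquiv_apply] at this
        rw [this]
        congr 1
        simp [Mmat]; ring
      · intro j
        have := hvu j
        rw [evalEquiv_apply] at this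
        rw [this]
        congr 1
        have hj0 : (j.succ : Fin (m + 1)) ≠ 0 := Fin.succ_ne_zero j
        simp [Mmat, hj0, hj0.symm]
    intro x
    rw [key]
    rfl

/-- the reduction hom on coordinates. -/
def Gam (g D : ℤ) : (Fin (m + 1) → ZMod δ) →+
    ZMod (Int.gcd (δ : ℤ) (D + 1 - g)) × (Fin m → ZMod (Int.gcd (δ : ℤ) ((Int.gcd (g - 1) D : ℕ) : ℤ))) where
  toFun w := (red δ (D + 1 - g) (w 0), fun j => red δ ((Int.gcd (g - 1) D : ℕ) : ℤ) (w j.succ))
  map_zero' := by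
    ext <;> simp
  map_add' w w' := by
    ext <;> simp

lemma Gam_surjective (g D : ℤ) : Function.Surjective (Gam (m := m) δ g D) := by
  rintro ⟨y0, y⟩
  obtain ⟨x0, hx0⟩ := red_surjective δ (D + 1 - g) y0
  choose x hx using fun j => red_surjective δ ((Int.gcd (g - 1) D : ℕ) : ℤ) (y j)
  refine ⟨Fin.cons x0 x, ?_⟩
  simp only [Gam, AddMonoidHom.coe_mk, ZeroHom.coe_mk, Fin.cons_zero, Fin.cons_succ, hx0, hx]

lemma Gam_eq_zero_iff (g D : ℤ) (w : Fin (m + 1) → ZMod δ) :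
    Gam δ g D w = 0 ↔ cond δ g D w := by
  simp only [Gam, AddMonoidHom.coe_mk, ZeroHom.coe_mk, Prod.mk_eq_zero, cond]
  rw [red_eq_zero_iff]
  constructor
  · rintro ⟨h0, h1⟩
    refine ⟨h0, fun j => ?_⟩
    have := congrFun h1 j
    simp only [Pi.zero_apply] at this
    rw [red_eq_zero_iff] at this
    exact (two_gen_iff δ D g _).mpr this
  · rintro ⟨h0, h1⟩
    refine ⟨h0, ?_⟩
    funext j
    simp only [Pi.zero_apply]
    rw [red_eq_zero_iff]
    exact (two_gen_iff δ D g _).mp (h1 j)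

/-- the composite hom. -/
def Theta (g D : ℤ) (T : (Fin (m + 1) → ℤ) ≃ₗ[ℤ] (Fin (m + 1) → ℤ)) :
    ((Fin (m + 1) → ℤ) →+ ZMod δ) →+
    ZMod (Int.gcd (δ : ℤ) (D + 1 - g)) × (Fin m → ZMod (Int.gcd (δ : ℤ) ((Int.gcd (g - 1) D : ℕ) : ℤ))) :=
  (Gam δ g D).comp (evalEquiv δ T).toAddMonoidHom

lemma closure_eq_ker (g : ℤ) (hδ : (δ : ℤ) ∣ 2 * (g - 1)) (d : Fin (m + 1) → ℤ) (D : ℤ)
    (T : (Fin (m + 1) → ℤ) ≃ₗ[ℤ] (Fin (m + 1) → ℤ))
    (hT : T (D • Pi.single 0 1) = d) :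
    AddSubgroup.closure (Sset δ g d) = (Theta δ g D T).ker := by
  have h : Sset δ g d = ((Theta δ g D T).ker : Set _) := by
    ext φ
    rw [mem_Sset_iff δ g hδ d D T hT, ← Gam_eq_zero_iff]
    rfl
  rw [h, AddSubgroup.closure_eq]

theorem quot_equiv (g : ℤ) (hδ : (δ : ℤ) ∣ 2 * (g - 1)) (d : Fin (m + 1) → ℤ) :
    Nonempty ((((Fin (m + 1) → ℤ) →+ ZMod δ) ⧸ AddSubgroup.closure (Sset δ g d)) ≃+
      (ZMod (Int.gcd (δ : ℤ) (Finset.univ.gcd d + 1 - g)) ×
        (Fin m → ZMod (Int.gcd (δ : ℤ) ((Int.gcd (g - 1) (Finset.univ.gcd d) : ℕ) : ℤ))))) := by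
  obtain ⟨T, hT⟩ := exists_T (0 : Fin (m + 1)) d
  have h1 := closure_eq_ker δ g hδ d _ T hT
  have hsurj : Function.Surjective (Theta δ g (Finset.univ.gcd d) T) := by
    intro y
    obtain ⟨w, hw⟩ := Gam_surjective δ g (Finset.univ.gcd d) y
    exact ⟨(evalEquiv δ T).symm w, by simp [Theta, hw]⟩
  exact ⟨(QuotientAddGroup.quotientAddEquivOfEq h1).trans
    (QuotientAddGroup.quotientKerEquivOfSurjective _ hsurj)⟩

end Groth.Agent.Lib.Helper6.BunG
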