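import Groth.Agent.Lib.Helper6.BunG.Main

set_option linter.unusedSectionVars false
set_option linter.unusedVariables false
set_option linter.unusedSimpArgs false
set_option autoImplicit false
set_option maxHeartbeats 400000

noncomputable section

namespace Groth.Agent.Lib.Helper6.BunG

variable {m : ℕ} (δ : ℕ)

/-- the parametrisation of the kernel on coordinates. -/
def Xi' (c1 c2 : ℤ) : ZMod (δ / Int.gcd (δ : ℤ) c1) × (Fin m → ZMod (δ / Int.gcd (δ : ℤ) c2)) →+
    (Fin (m + 1) → ZMod δ) where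
  toFun y := Fin.cons (mu δ c1 y.1) (fun j => mu δ c2 (y.2 j))
  map_zero' := by
    funext i
    refine Fin.cases ?_ ?_ i
    · simp
    · intro j; simp
  map_add' y y' := by
    funext i
    refine Fin.cases ?_ ?_ i
    · simp
    · intro j; simp

lemma Xi'_injective (hδ : 0 < δ) (c1 c2 : ℤ) : Function.Injective (Xi' (m := m) δ c1 c2) := by
  intro y y' h
  have h0 := congrFun h 0
  simp only [Xi', AddMonoidHom.coe_mk, ZeroHom.coe_mk, Fin.cons_zero] at h0
  have h1 : ∀ j : Fin m, mu δ c2 (y.2 j) = mu δ c2 (y'.2 j) := by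
    intro j
    have := congrFun h j.succ
    simpa only [Xi', AddMonoidHom.coe_mk, ZeroHom.coe_mk, Fin.cons_succ] using this
  apply Prod.ext
  · exact mu_injective δ c1 hδ h0
  · funext j
    exact mu_injective δ c2 hδ (h1 j)

lemma mem_range_Xi'_iff (c1 c2 : ℤ) (w : Fin (m + 1) → ZMod δ) :
    w ∈ Set.range (Xi' (m := m) δ c1 c2) ↔
      red δ c1 (w 0) = 0 ∧ ∀ j : Fin m, red δ c2 (w j.succ) = 0 := by
  constructor
  · rintro ⟨y, rfl⟩
    refine ⟨?_, fun j => ?_⟩
    · rw [← mem_range_mu_iff]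
      exact ⟨y.1, rfl⟩
    · rw [← mem_range_mu_iff]
      exact ⟨y.2 j, rfl⟩
  · rintro ⟨h0, h1⟩
    rw [← mem_range_mu_iff] at h0
    obtain ⟨y0, hy0⟩ := h0
    have h1' : ∀ j : Fin m, ∃ yj, mu δ c2 yj = w j.succ := by
      intro j
      have := h1 j
      rw [← mem_range_mu_iff] at this
      exact this
    choose y hy using h1'
    refine ⟨(y0, y), ?_⟩
    funext i
    refine Fin.cases ?_ ?_ i
    · simp [Xi', hy0]
    · intro j; simp [Xi', hy]

theorem sub_equiv (hδ0 : 0 < δ) (g : ℤ) (hδ : (δ : ℤ) ∣ 2 * (g - 1)) (d : Fin (m + 1) → ℤ) :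
    Nonempty (AddSubgroup.closure (Sset δ g d) ≃+
      (ZMod (δ / Int.gcd (δ : ℤ) (Finset.univ.gcd d + 1 - g)) ×
        (Fin m → ZMod (δ / Int.gcd (δ : ℤ) ((Int.gcd (g - 1) (Finset.univ.gcd d) : ℕ) : ℤ))))) := by
  obtain ⟨T, hT⟩ := exists_T (0 : Fin (m + 1)) d
  set D := Finset.univ.gcd d with hD
  have h1 := closure_eq_ker δ g hδ d D T hT
  set Xi := ((evalEquiv δ T).symm.toAddMonoidHom).comp
    (Xi' (m := m) δ (D + 1 - g) ((Int.gcd (g - 1) D : ℕ) : ℤ)) with hXi
  have hinj : Function.Injective Xi := by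
    rw [hXi]
    exact (evalEquiv δ T).symm.injective.comp (Xi'_injective δ hδ0 _ _)
  have hrange : Xi.range = AddSubgroup.closure (Sset δ g d) := by
    rw [h1]
    ext φ
    rw [AddMonoidHom.mem_range, AddMonoidHom.mem_ker]
    constructor
    · rintro ⟨y, rfl⟩
      change Gam δ g D ((evalEquiv δ T) ((evalEquiv δ T).symm (Xi' δ _ _ y))) = 0
      rw [AddEquiv.apply_symm_apply]
      have := (mem_range_Xi'_iff (m := m) δ (D + 1 - g) ((Int.gcd (g - 1) D : ℕ) : ℤ) _).mp ⟨y, rfl⟩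
      simp only [Gam, AddMonoidHom.coe_mk, ZeroHom.coe_mk, Prod.mk_eq_zero]
      exact ⟨this.1, funext this.2⟩
    · intro hφ
      change Gam δ g D (evalEquiv δ T φ) = 0 at hφ
      simp only [Gam, AddMonoidHom.coe_mk, ZeroHom.coe_mk, Prod.mk_eq_zero] at hφ
      obtain ⟨y, hy⟩ := (mem_range_Xi'_iff (m := m) δ (D + 1 - g) ((Int.gcd (g - 1) D : ℕ) : ℤ) _).mpr
        ⟨hφ.1, fun j => congrFun hφ.2 j⟩
      refine ⟨y, ?_⟩
      change (evalEquiv δ T).symm (Xi' δ _ _ y) = φ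
      rw [hy, AddEquiv.symm_apply_apply]
  exact ⟨((AddMonoidHom.ofInjective hinj).trans (AddEquiv.addSubgroupCongr hrange)).symm⟩

end Groth.Agent.Lib.Helper6.BunG
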